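import Cfsg.Agent.H468.K6.FiSeven
import Cfsg.Agent.H842.SevenSyl
import Cfsg.Agent.Fischer.Fi24Final

/-!
# `Fi24'`, `p = 7`: the centralizer of `yy`, the subgroup `A₇` and the centralizer of the Sylow subgroup (helper143)
-/

set_option autoImplicit false
set_option maxRecDepth 100000

open Cfsg

namespace Cfsg.Agent.H143.HT.FiYY

open Cfsg.Agent.H468.K6 Cfsg.Agent.H468.K6.Fi
open Subgroup Equiv
open Cfsg.Agent.Fischer.Fi24RepDef Cfsg.Agent.Fischer.Fi24Rep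
open Cfsg.Agent.H842.Seven Cfsg.Agent.H842.SevenSyl
open Cfsg.Spor (Fi24 Fi24')
open Cfsg.Agent.Fischer.Fi24Final (sgn sgn_gen ker_sgn)

theorem sgn_conj {x y : Fi24} (h : IsConj x y) : sgn x = sgn y := by
  obtain ⟨g, rfl⟩ := isConj_iff.1 h
  rw [map_mul, map_mul, map_inv, mul_comm, ← mul_assoc, inv_mul_cancel, one_mul]

theorem sgn_swap {i j : Fin 7} (h : i ≠ j) : sgn (Psi (swap i j)) = -1 := by
  have h1 : IsConj (gen .l) (Psi (swap i j)) := Psi_mem_L h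
  rw [← sgn_conj h1, sgn_gen]

theorem sgn_Psi (σ : Perm (Fin 7)) : sgn (Psi σ) = Perm.sign σ := by
  have h1 : sgn.comp Psi = Perm.sign := by
    apply Perm.eq_sign_of_surjective_hom
    intro a
    rcases Int.units_eq_one_or a with rfl | rfl
    · exact ⟨1, map_one _⟩
    · exact ⟨swap 0 1, sgn_swap (by decide)⟩
  exact DFunLike.congr_fun h1 σ

theorem sgn_y7 : sgn y7 = 1 := by
  have h1 : y7 ∈ commutator Fi24 := mem_comm (n := 7) (by decide) y7_pow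
  rw [← ker_sgn] at h1
  exact h1

theorem mem_iff (x : Fi24) : x ∈ commutator Fi24 ↔ sgn x = 1 := by
  rw [← ker_sgn]; rfl

/-- a central permutation -/
theorem perm_central {σ : Perm (Fin 7)} (h : ∀ τ : Perm (Fin 7), σ * τ = τ * σ) : σ = 1 := by
  by_contra hne
  obtain ⟨a, ha⟩ : ∃ a, σ a ≠ a := by
    by_contra hc
    push Not at hc
    exact hne (Equiv.ext hc)
  obtain ⟨b, hb1, hb2⟩ : ∃ b : Fin 7, b ≠ a ∧ b ≠ σ a := by
    have : ∀ x y : Fin 7, ∃ b : Fin 7, b ≠ x ∧ b ≠ y := by decide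
    exact this a (σ a)
  have h1 : σ (swap a b a) = swap a b (σ a) := DFunLike.congr_fun (h (swap a b)) a
  rw [swap_apply_left, swap_apply_of_ne_of_ne ha hb2.symm] at h1
  exact hb1 (σ.injective h1)

theorem pow_Psi {i : ℤ} {σ : Perm (Fin 7)} (h : y7 ^ i = Psi σ) : σ = 1 := by
  apply perm_central
  intro τ
  have h1 : Commute (y7 ^ i) (Psi τ) := (y7_Psi τ).symm.zpow_left i
  rw [h] at h1
  exact Psi_injective (by rw [map_mul, map_mul]; exact h1.eq)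

theorem inj_form {i j : ℤ} {σ τ : Perm (Fin 7)} (h : y7 ^ i * Psi σ = y7 ^ j * Psi τ) : y7 ^ i = y7 ^ j ∧ σ = τ := by
  have h1 : y7 ^ (-j + i) = Psi (τ * σ⁻¹) := by
    rw [map_mul, map_inv, eq_mul_inv_iff_mul_eq, zpow_add, mul_assoc, h, zpow_neg, inv_mul_cancel_left]
  have h2 := pow_Psi h1
  have h3 : σ = τ := by rw [mul_inv_eq_one] at h2; exact h2.symm
  subst h3
  exact ⟨mul_right_cancel h, rfl⟩

theorem form_mem (i : ℤ) (σ : Perm (Fin 7)) : y7 ^ i * Psi σ ∈ commutator Fi24 ↔ Perm.sign σ = 1 := by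
  rw [mem_iff, map_mul, map_zpow, sgn_y7, one_zpow, one_mul, sgn_Psi]

theorem form_comm (i : ℤ) (σ : Perm (Fin 7)) : y7 ^ i * Psi σ * y7 = y7 * (y7 ^ i * Psi σ) :=
  (((Commute.refl y7).zpow_right i).mul_right (y7_Psi σ).symm).eq.symm

/-- the parametrisation of the centralizer -/
noncomputable def toCent (p : ↥(zpowers y7) × ↥(alternatingGroup (Fin 7))) : ↥(centralizer ({yy} : Set Fi24')) :=
  ⟨⟨(p.1 : Fi24) * Psi (p.2 : Perm (Fin 7)), by
      obtain ⟨⟨_, i, rfl⟩, ⟨σ, hσ⟩⟩ := p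
      exact (form_mem i σ).2 (Perm.mem_alternatingGroup.1 hσ)⟩, by
      obtain ⟨⟨_, i, rfl⟩, ⟨σ, hσ⟩⟩ := p
      rw [mem_centralizer_singleton_iff]
      exact Subtype.ext (form_comm i σ)⟩

theorem toCent_bij : Function.Bijective toCent := by
  constructor
  · rintro ⟨⟨_, i, rfl⟩, ⟨σ, hσ⟩⟩ ⟨⟨_, j, rfl⟩, ⟨τ, hτ⟩⟩ h
    have h1 : y7 ^ i * Psi σ = y7 ^ j * Psi τ := congrArg Subtype.val (congrArg Subtype.val h)
    obtain ⟨h2, h3⟩ := inj_form h1
    subst h3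
    exact Prod.ext (Subtype.ext h2) rfl
  · rintro ⟨⟨n, hn⟩, hn'⟩
    have h1 : n * y7 = y7 * n := congrArg Subtype.val (mem_centralizer_singleton_iff.1 hn')
    obtain ⟨i, σ, rfl⟩ := exists_of_comm7 h1
    refine ⟨(⟨y7 ^ i, (i : ℤ), zpow_natCast _ _⟩, ⟨σ, ?_⟩), rfl⟩
    rw [Perm.mem_alternatingGroup, ← form_mem i σ, zpow_natCast]
    exact hn

theorem card_yy : Nat.card ↥(centralizer ({yy} : Set Spor.Fi24')) = 17640 := by
  rw [← Nat.card_congr (Equiv.ofBijective _ toCent_bij), Nat.card_prod, Nat.card_zpowers, y7_order]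
  have h1 : 2 * Nat.card ↥(alternatingGroup (Fin 7)) = Nat.card (Perm (Fin 7)) := by
    exact two_mul_nat_card_alternatingGroup
  rw [Nat.card_perm, Nat.card_fin] at h1
  have h2 : Nat.factorial 7 = 5040 := rfl
  omega

/-- `Fi24' ∩ S₇ = A₇` -/
noncomputable def L : Subgroup Spor.Fi24' := (Psi.range).comap (commutator Fi24).subtype

theorem mem_L {v : Spor.Fi24'} : v ∈ FiYY.L ↔ ∃ σ, Psi σ = (v : Fi24) := Iff.rfl

theorem La : yy ∉ FiYY.L := by
  rintro ⟨σ, hσ⟩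
  have h1 : Psi σ = y7 := hσ
  have h2 := pow_Psi (i := 1) (σ := σ) (by rw [zpow_one, h1])
  subst h2
  rw [map_one] at h1
  exact y7_ne h1.symm

theorem c_sg : c = Psi sg := c_eq

theorem sg_pt : ∀ a : Fin 7, ∃ k : Fin 7, (sg ^ (k : ℕ)) 0 = a := by decide +kernel

theorem comm_sg {σ : Perm (Fin 7)} (h : σ * sg = sg * σ) : ∃ j : ℕ, σ = sg ^ j := by
  obtain ⟨j, hj⟩ := sg_pt (σ 0)
  refine ⟨j, Equiv.ext fun a => ?_⟩
  obtain ⟨k, rfl⟩ := sg_pt a
  have h1 : Commute σ (sg ^ (k : ℕ)) := (show Commute σ sg from h).pow_right _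
  have h2 : σ ((sg ^ (k : ℕ)) 0) = (sg ^ (k : ℕ)) (σ 0) := DFunLike.congr_fun h1.eq 0
  rw [h2, ← hj, ← Perm.mul_apply, ← Perm.mul_apply, ← pow_add, ← pow_add, add_comm]

theorem cR : ∀ v : Spor.Fi24', (∀ r ∈ datF.P, v * r = r * v) → v ∈ datF.P := by
  intro v hv
  have hy : yy ∈ datF.P := ⟨0, 1, 0, by simp⟩
  have hc : cc ∈ datF.P := ⟨0, 0, 1, by simp⟩
  have h1 : (v : Fi24) * y7 = y7 * v := congrArg Subtype.val (hv _ hy)
  have h2 : (v : Fi24) * c = c * v := congrArg Subtype.val (hv _ hc)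
  obtain ⟨i, σ, hσ⟩ := exists_of_comm7 h1
  have h3 : Commute (y7 ^ i)⁻¹ c := ((show Commute y7 c from c_y7.symm).pow_left i).inv_left
  have h4 : Commute (Psi σ) c := by
    have h5 : Psi σ = (y7 ^ i)⁻¹ * v := by rw [hσ, inv_mul_cancel_left]
    rw [h5]
    exact h3.mul_left h2
  have h5 : σ * sg = sg * σ := by
    apply Psi_injective
    rw [map_mul, map_mul, ← c_sg]
    exact h4.eq
  obtain ⟨j, rfl⟩ := comm_sg h5
  refine ⟨0, i, j, Subtype.ext ?_⟩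
  rw [pow_zero, one_mul]
  show (v : Fi24) = y7 ^ i * c ^ j
  rw [hσ, map_pow, c_sg]

theorem fac7 : (Nat.card (Perm (Fin 7))).factorization 7 = 1 := by
  rw [Nat.card_perm, Nat.card_fin]
  have h2 : Nat.factorial 7 = 7 * 720 := rfl
  rw [h2, Nat.factorization_mul (by norm_num) (by norm_num), Finsupp.add_apply,
      Nat.Prime.factorization_self (by norm_num), Nat.factorization_eq_zero_of_not_dvd (by norm_num)]

theorem sg_order : orderOf sg = 7 := by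
  rw [← orderOf_injective Psi Psi_injective, ← c_sg, c_order]

theorem u_conj (k i : ℕ) : u ^ k * y7 ^ i * (u ^ k)⁻¹ = y7 ^ i * c ^ (k * i) := by
  have h0 : ∀ k : ℕ, u ^ k * y7 = y7 * c ^ k * u ^ k := fun k => dat.u_pow_y k
  have h1 : u ^ k * y7 * (u ^ k)⁻¹ = y7 * c ^ k := by rw [h0, mul_inv_cancel_right]
  rw [← conj_pow, h1, (show Commute y7 (c ^ k) from ((show Commute y7 c from c_y7.symm).pow_right k)).mul_pow, ← pow_mul]

theorem Lc : ∀ u : Spor.Fi24', IsConj cc u → u * yy = yy * u → u ∈ FiYY.L := by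
  have hp : Fact (Nat.Prime 7) := ⟨by norm_num⟩
  rintro ⟨w, hw⟩ hcc hcy
  have h1 : w * y7 = y7 * w := congrArg Subtype.val hcy
  obtain ⟨g, hg⟩ := isConj_iff.1 hcc
  have h2 : (g : Fi24) * c * (g : Fi24)⁻¹ = w := congrArg Subtype.val hg
  obtain ⟨i, σ, hσ⟩ := exists_of_comm7 h1
  have h3 : w ^ 7 = 1 := by rw [← h2, conj_pow, H842.SevenSyl.c_pow, mul_one, mul_inv_cancel]
  have h4 : σ ^ 7 = 1 := by
    have h5 : w ^ 7 = (y7 ^ i) ^ 7 * Psi (σ ^ 7) := by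
      rw [hσ, ((y7_Psi σ).symm.pow_left i).mul_pow, map_pow]
    rw [h3, ← pow_mul, mul_comm i, pow_mul, y7_pow, one_pow, one_mul] at h5
    exact Psi_injective (by rw [← h5, map_one])
  by_cases h7 : 7 ∣ i
  · obtain ⟨j, rfl⟩ := h7
    refine ⟨σ, ?_⟩
    rw [pow_mul, y7_pow, one_pow, one_mul] at hσ
    exact hσ.symm
  exfalso
  by_cases h6 : σ = 1
  · subst h6
    rw [map_one, mul_one] at hσ
    exact not_conj_y7 (g := g) (by rw [h2, hσ]; exact pow_mem (mem_zpowers y7) i)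
  have h8 : orderOf σ = 7 := orderOf_eq_prime h4 h6
  obtain ⟨h, hh⟩ := conj_of_card fac7 h8 sg_order
  obtain ⟨j, hj⟩ := (mem_powers_iff_mem_zpowers).2 hh
  have hj' : sg ^ j = h * σ * h⁻¹ := hj
  -- pick `k` with `k * i ≡ j`
  obtain ⟨k, hk⟩ : ∃ k : ℕ, (k * i) % 7 = j % 7 := by
    have h9 : Nat.Coprime i 7 := ((Nat.Prime.coprime_iff_not_dvd (by norm_num)).2 h7).symm
    obtain ⟨m, -, hm⟩ := Nat.exists_mul_mod_eq_one_of_coprime h9 (by norm_num)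
    refine ⟨m * j, ?_⟩
    have : m * j * i = (i * m) * j := by ring
    rw [this, Nat.mul_mod, hm, one_mul, Nat.mod_mod]
  have h9 : Psi h * w * (Psi h)⁻¹ = y7 ^ i * c ^ j := by
    rw [hσ, c_sg, ← map_pow, hj', map_mul, map_mul, map_inv]
    have h10 : Commute (Psi h) (y7 ^ i) := (y7_Psi h).pow_right i
    calc Psi h * (y7 ^ i * Psi σ) * (Psi h)⁻¹ = (Psi h * y7 ^ i) * Psi σ * (Psi h)⁻¹ := by group
      _ = (y7 ^ i * Psi h) * Psi σ * (Psi h)⁻¹ := by rw [h10.eq]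
      _ = _ := by group
  have h10 : u ^ k * y7 ^ i * (u ^ k)⁻¹ = y7 ^ i * c ^ j := by
    rw [u_conj, ← H842.Heis.Dat.pow_mod H842.SevenSyl.c_pow (k * i), hk, H842.Heis.Dat.pow_mod H842.SevenSyl.c_pow]
  refine not_conj_y7 (g := (u ^ k)⁻¹ * Psi h * g) ?_
  have h11 : (u ^ k)⁻¹ * Psi h * g * c * ((u ^ k)⁻¹ * Psi h * g)⁻¹ = y7 ^ i := by
    have h12 : (u ^ k)⁻¹ * Psi h * g * c * ((u ^ k)⁻¹ * Psi h * g)⁻¹
        = (u ^ k)⁻¹ * (Psi h * (g * c * (g : Fi24)⁻¹) * (Psi h)⁻¹) * u ^ k := by group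
    rw [h12, h2, h9, ← h10]
    group
  rw [h11]
  exact pow_mem (mem_zpowers y7) i

end Cfsg.Agent.H143.HT.FiYY
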