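import Cfsg.Agent.H653.HNE.Pairs

/-!
# The Harada-Norton group has no elementary abelian subgroup of order 4096 (helper143)

The involutions of such a subgroup `E` are 2-central (`|C(2A)|` is not divisible by 4096); conjugate `W0 ∈ E`; `E` acts on the
240 elements of `SA` (class 4A, square `W0`), each of which commutes with 71 conjugates of `W0`: the stabilizers have order at
most 64, the orbits have lengths divisible by 64, but `64 ∤ 240`.
-/

set_option autoImplicit false
set_option maxRecDepth 100000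

namespace Cfsg.Agent.H143.HT.HNRank

open Subgroup
open Cfsg.Agent.HN.XWords Cfsg.Agent.HN.XStruct Cfsg.Agent.KFacts.HN
open Cfsg.Agent.ThType.CSideModel (ι)
open Cfsg.Agent.H653.HNE

theorem card_SA : Nat.card SA = 240 := by
  rw [← count240, ← Nat.card_eq_fintype_card]
  symm
  refine Nat.card_congr (Equiv.ofBijective (fun m => ⟨ι W0 bx m.1, mem_SA.2 ⟨m.1, m.1.2, m.2, rfl⟩⟩) ⟨?_, ?_⟩)
  · intro a b hab
    have h1 : ι W0 bx a.1 = ι W0 bx b.1 := congrArg Subtype.val hab
    exact Subtype.ext (Fin.ext (ι_inj a.1.2 b.1.2 h1))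
  · rintro ⟨g, hg⟩
    obtain ⟨m, hm, h1, rfl⟩ := mem_SA.1 hg
    exact ⟨⟨⟨m, hm⟩, h1⟩, rfl⟩

/-- the action of a subgroup of `PP` on `SA` -/
noncomputable def act (E : Subgroup Cfsg.Spor.HN) (hE : E ≤ PP) : MulAction E SA where
  smul e g := ⟨(e : Cfsg.Spor.HN) * g * (e : Cfsg.Spor.HN)⁻¹, (SA_conj (hE e.2)).2 g.2⟩
  one_smul g := Subtype.ext (by
    show (1 : Cfsg.Spor.HN) * g * (1 : Cfsg.Spor.HN)⁻¹ = g
    group)
  mul_smul a b g := Subtype.ext (by
    show ((a : Cfsg.Spor.HN) * b) * g * ((a : Cfsg.Spor.HN) * b)⁻¹ = a * (b * g * (b : Cfsg.Spor.HN)⁻¹) * (a : Cfsg.Spor.HN)⁻¹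
    group)

theorem aux (E : Subgroup Cfsg.Spor.HN) (hE : 4096 ∣ Nat.card E) (h2 : ∀ x ∈ E, x * x = 1) (hW : W0 ∈ E)
    (hB : ∀ x ∈ E, x ≠ 1 → IsConj W0 x) : False := by
  classical
  have hcomm : ∀ x ∈ E, ∀ y ∈ E, x * y = y * x := by
    intro x hx y hy
    have h3 := h2 _ (E.mul_mem hx hy)
    have h4 : x * y = (x * y)⁻¹ := eq_inv_of_mul_eq_one_left h3
    have h5 : x⁻¹ = x := inv_eq_of_mul_eq_one_left (h2 x hx)
    have h6 : y⁻¹ = y := inv_eq_of_mul_eq_one_left (h2 y hy)
    rw [mul_inv_rev, h5, h6] at h4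
    exact h4
  have hPP : E ≤ PP := fun x hx => mem_PP.2 (hcomm x hx W0 hW)
  letI := act E hPP
  have hp : IsPGroup 2 E := fun x => ⟨1, by
    rw [pow_one, pow_two]
    exact Subtype.ext (h2 x x.2)⟩
  have : Fact (Nat.Prime 2) := ⟨Nat.prime_two⟩
  obtain ⟨n, hn⟩ := IsPGroup.iff_card.1 hp
  have hn12 : 12 ≤ n := by
    rw [hn, show (4096 : ℕ) = 2 ^ 12 by norm_num] at hE
    exact (Nat.pow_dvd_pow_iff_le_right (by norm_num)).1 hE
  have hstab : ∀ g : SA, 64 ∣ (MulAction.stabilizer E g).index := by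
    intro g
    have h3 : Nat.card (MulAction.stabilizer E g) ≤ 72 := by
      have hg : IsConj R4A (g : Cfsg.Spor.HN) := by
        obtain ⟨c, -, hc⟩ := g.2
        exact isConj_iff.2 ⟨c, hc⟩
      have h4 : B2 (g : Cfsg.Spor.HN) = 71 := by rw [← B2_conj hg, B2_4A]
      let f : MulAction.stabilizer E g → Option {t : Cfsg.Spor.HN // IsConj W0 t ∧ Commute t (g : Cfsg.Spor.HN)} :=
        fun e => if h : ((e : E) : Cfsg.Spor.HN) = 1 then none else some ⟨((e : E) : Cfsg.Spor.HN), hB _ e.1.2 h, by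
          have h5 : ((e : E) : Cfsg.Spor.HN) * g * ((e : E) : Cfsg.Spor.HN)⁻¹ = g := congrArg Subtype.val e.2
          exact mul_inv_eq_iff_eq_mul.1 h5⟩
      have hf : Function.Injective f := by
        intro a b hab
        by_cases h : ((a : E) : Cfsg.Spor.HN) = 1
        · by_cases h' : ((b : E) : Cfsg.Spor.HN) = 1
          · exact Subtype.ext (Subtype.ext (h.trans h'.symm))
          · simp only [f, dif_pos h, dif_neg h'] at hab
            exact absurd hab (by simp)
        · by_cases h' : ((b : E) : Cfsg.Spor.HN) = 1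
          · simp only [f, dif_pos h', dif_neg h] at hab
            exact absurd hab (by simp)
          · simp only [f, dif_neg h', dif_neg h, Option.some.injEq] at hab
            have h8 := congrArg Subtype.val hab
            exact Subtype.ext (Subtype.ext h8)
      have h5 := Nat.card_le_card_of_injective f hf
      have h6 : Nat.card (Option {t : Cfsg.Spor.HN // IsConj W0 t ∧ Commute t (g : Cfsg.Spor.HN)}) = 72 := by
        have h7 : Nat.card {t : Cfsg.Spor.HN // IsConj W0 t ∧ Commute t (g : Cfsg.Spor.HN)} = 71 := h4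
        rw [Finite.card_option, h7]
      rwa [h6] at h5
    have h4 := (MulAction.stabilizer E g).card_mul_index
    rw [hn] at h4
    obtain ⟨i, -, hi⟩ := (Nat.dvd_prime_pow Nat.prime_two).1 (Dvd.intro_left _ h4)
    obtain ⟨j, -, hj⟩ := (Nat.dvd_prime_pow Nat.prime_two).1 (Dvd.intro _ h4)
    rw [hi]
    rw [hj] at h3
    rw [hi, hj, ← pow_add] at h4
    have h5 : j + i = n := Nat.pow_right_injective le_rfl h4
    have h6 : j ≤ 6 := by
      by_contra hlt
      push Not at hlt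
      have h7 : 2 ^ 7 ≤ 2 ^ j := Nat.pow_le_pow_right (by norm_num) hlt
      omega
    have h7 : (64 : ℕ) = 2 ^ 6 := by norm_num
    rw [h7]
    exact pow_dvd_pow 2 (by omega)
  have hfin : Finite SA := inferInstance
  have h5 : 64 ∣ Nat.card SA := by
    rw [Nat.card_congr (MulAction.selfEquivSigmaOrbitsQuotientStabilizer E SA)]
    have : Finite (Quotient (MulAction.orbitRel E SA)) := inferInstance
    have := Fintype.ofFinite (Quotient (MulAction.orbitRel E SA))
    rw [Nat.card_sigma]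
    exact Finset.dvd_sum fun ω _ => hstab _
  rw [card_SA] at h5
  omega

theorem isConj_W0 {E : Subgroup Cfsg.Spor.HN} (hE : 4096 ∣ Nat.card E) (h2 : ∀ x ∈ E, x * x = 1) {x : Cfsg.Spor.HN}
    (hx : x ∈ E) (h1 : x ≠ 1) : IsConj W0 x := by
  have hcomm : ∀ y ∈ E, x * y = y * x := by
    intro y hy
    have h3 := h2 _ (E.mul_mem hx hy)
    have h4 : x * y = (x * y)⁻¹ := eq_inv_of_mul_eq_one_left h3
    have h5 : x⁻¹ = x := inv_eq_of_mul_eq_one_left (h2 x hx)
    have h6 : y⁻¹ = y := inv_eq_of_mul_eq_one_left (h2 y hy)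
    rw [mul_inv_rev, h5, h6] at h4
    exact h4
  have : Fact (Nat.Prime 2) := ⟨Nat.prime_two⟩
  have ho : orderOf x = 2 := orderOf_eq_prime (by rw [pow_two]; exact h2 x hx) h1
  rcases Cfsg.Agent.KFacts.HN.Classes.inv_class ho with h | h
  · exfalso
    have h3 : Nat.card (centralizer ({x} : Set Cfsg.Spor.HN)) = 177408000 := by
      rw [card_cent_of_isConj h]
      exact Cfsg.Agent.KFacts.HN.Classes.card_centralizer_τ
    have h4 : E ≤ centralizer ({x} : Set Cfsg.Spor.HN) := fun y hy =>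
      mem_centralizer_singleton_iff.2 (hcomm y hy).symm
    have h5 := hE.trans (Subgroup.card_dvd_of_le h4)
    rw [h3] at h5
    omega
  · exact h.symm

/-- **no elementary abelian subgroup of order 4096** -/
theorem no4096 (E : Subgroup Cfsg.Spor.HN) (hE : 4096 ∣ Nat.card E) (h2 : ∀ x ∈ E, x * x = 1) : False := by
  have hb : E ≠ ⊥ := by
    rintro rfl
    rw [Subgroup.card_bot] at hE
    omega
  obtain ⟨x, hx, hx1⟩ : ∃ x ∈ E, x ≠ 1 := by
    by_contra hc
    push Not at hc
    exact hb ((Subgroup.eq_bot_iff_forall E).2 hc)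
  obtain ⟨c, hc⟩ := isConj_iff.1 (isConj_W0 hE h2 hx hx1)
  have hcard : Nat.card (E.map (MulAut.conj c⁻¹).toMonoidHom) = Nat.card E :=
    (Nat.card_congr (E.equivMapOfInjective _ (MulAut.conj c⁻¹).injective).toEquiv).symm
  have h2' : ∀ y ∈ E.map (MulAut.conj c⁻¹).toMonoidHom, y * y = 1 := by
    rintro _ ⟨y, hy, rfl⟩
    rw [← map_mul, h2 y hy, map_one]
  refine aux (E.map (MulAut.conj c⁻¹).toMonoidHom) (by rw [hcard]; exact hE) h2' ⟨x, hx, ?_⟩
    (fun y hy hy1 => isConj_W0 (by rw [hcard]; exact hE) h2' hy hy1)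
  show c⁻¹ * x * c⁻¹⁻¹ = W0
  rw [← hc]
  group

end Cfsg.Agent.H143.HT.HNRank
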